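import Mathlib

/-!
# Counting automorphisms of a biproduct over a hom-orthogonal family (abstract part)
-/

open CategoryTheory CategoryTheory.Limits

namespace Groth.Agent.H5.Aut3

universe v u

section Abstract

variable {C : Type u} [Category.{v} C] [Preadditive C] [HasFiniteBiproducts C]

open scoped Classical in
/-- End of a biproduct over a hom-orthogonal family is a product of matrix rings (as monoids). -/
noncomputable def endMulEquiv {ι : Type*} {s : ι → C} (o : HomOrthogonal s) {α : Type} [Fintype α]
    (f : α → ι) :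
    End (⨁ fun a => s (f a)) ≃* (∀ i : ι, Matrix (f ⁻¹' {i}) (f ⁻¹' {i}) (End (s i))) :=
  { o.matrixDecomposition (f := f) (g := f) with
    map_mul' := fun x y => by
      funext i
      exact o.matrixDecomposition_comp y x i }

open scoped Classical in
/-- Aut of a biproduct over a hom-orthogonal family with endomorphism rings `k`. -/
noncomputable def autMulEquiv {ι : Type*} {s : ι → C} (o : HomOrthogonal s) {α : Type} [Fintype α]
    (f : α → ι) {k : Type*} [Ring k] (e : ∀ i, End (s i) ≃+* k) :
    Aut (⨁ fun a => s (f a)) ≃* (∀ i : ι, (Matrix (f ⁻¹' {i}) (f ⁻¹' {i}) k)ˣ) :=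
  (Aut.unitsEndEquivAut _).symm.trans <|
    (Units.mapEquiv (endMulEquiv o f)).trans <|
      MulEquiv.piUnits.trans
        (MulEquiv.piCongrRight fun i => Units.mapEquiv ((e i).mapMatrix).toMulEquiv)

end Abstract

section Card

theorem card_units_matrix (k : Type*) [Field k] [Finite k] (m : Type*) [Fintype m]
    [DecidableEq m] :
    Nat.card (Matrix m m k)ˣ =
      ∏ i : Fin (Fintype.card m), (Nat.card k ^ (Fintype.card m) - Nat.card k ^ (i : ℕ)) := by
  haveI : Fintype k := Fintype.ofFinite k
  have e : (Matrix m m k)ˣ ≃* (Matrix (Fin (Fintype.card m)) (Fin (Fintype.card m)) k)ˣ :=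
    Units.mapEquiv (Matrix.reindexAlgEquiv k k (Fintype.equivFin m)).toMulEquiv
  rw [Nat.card_congr e.toEquiv]
  have := Matrix.card_GL_field (𝔽 := k) (n := Fintype.card m)
  rw [Nat.card_eq_fintype_card (α := k)]
  exact this

end Card

end Groth.Agent.H5.Aut3
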