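import Mathlib
import Groth.Agent.Lib.Helper5.Aut3.A

open CategoryTheory CategoryTheory.Limits

namespace Groth.Agent.H5.Aut3

universe v u

variable {C : Type u} [Category.{v} C] [Preadditive C] [HasFiniteBiproducts C]

open scoped Classical in
theorem card_aut_biproduct {ι : Type*} [Fintype ι] {s : ι → C} (o : HomOrthogonal s) {α : Type}
    [Fintype α] (f : α → ι) {k : Type*} [Field k] [Finite k]
    (e : ∀ i, Nonempty (End (s i) ≃+* k)) (n : ι → ℕ)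
    (hn : ∀ i, Nat.card {a // f a = i} = n i) :
    Nat.card (Aut (⨁ fun a => s (f a))) =
      ∏ i : ι, ∏ j : Fin (n i), (Nat.card k ^ n i - Nat.card k ^ (j : ℕ)) := by
  rw [Nat.card_congr (autMulEquiv o f (fun i => (e i).some)).toEquiv, Nat.card_pi]
  refine Finset.prod_congr rfl fun i _ => ?_
  have hc : Fintype.card (f ⁻¹' {i}) = n i := by
    rw [← Nat.card_eq_fintype_card]
    exact hn i
  rw [card_units_matrix, hc]

variable [HasBinaryBiproducts C]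

/-- `A ⊞ (B ⊞ D)` as a biproduct over `Fin 3`. -/
noncomputable def biprodIsoFin3 (g : Fin 3 → C) : g 0 ⊞ (g 1 ⊞ g 2) ≅ ⨁ g where
  hom := biprod.desc (biproduct.ι g 0) (biprod.desc (biproduct.ι g 1) (biproduct.ι g 2))
  inv := biproduct.desc (fun i => match i with
    | 0 => biprod.inl
    | 1 => biprod.inl ≫ biprod.inr
    | 2 => biprod.inr ≫ biprod.inr)
  hom_inv_id := by
    ext <;> simp
  inv_hom_id := by
    refine biproduct.hom_ext' _ _ (fun i => ?_)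
    fin_cases i <;> simp

theorem card_aut_three {ι : Type*} [Fintype ι] {s : ι → C} (o : HomOrthogonal s)
    (f0 f1 f2 : ι) {k : Type*} [Field k] [Finite k]
    (e : ∀ i, Nonempty (End (s i) ≃+* k)) (n : ι → ℕ)
    (hn : ∀ i, Nat.card {a : Fin 3 // ![f0, f1, f2] a = i} = n i) (A B D : C)
    (eA : A ≅ s f0) (eB : B ≅ s f1) (eD : D ≅ s f2) :
    Nat.card (Aut (A ⊞ (B ⊞ D))) =
      ∏ i : ι, ∏ j : Fin (n i), (Nat.card k ^ n i - Nat.card k ^ (j : ℕ)) := by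
  rw [← card_aut_biproduct o ![f0, f1, f2] e n hn]
  have i1 : A ⊞ (B ⊞ D) ≅ s f0 ⊞ (s f1 ⊞ s f2) := biprod.mapIso eA (biprod.mapIso eB eD)
  have i2 : A ⊞ (B ⊞ D) ≅ ⨁ fun a => s (![f0, f1, f2] a) :=
    i1 ≪≫ biprodIsoFin3 (fun a => s (![f0, f1, f2] a))
  exact Nat.card_congr i2.conjAut.toEquiv

theorem arith1 (q : ℕ) :
    (∏ _i : Unit, ∏ j : Fin 3, (q ^ 3 - q ^ (j : ℕ))) =
      (q ^ 3 - 1) * (q ^ 3 - q) * (q ^ 3 - q ^ 2) := by
  simp [Fin.prod_univ_three]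

theorem arith2 (q : ℕ) (hq : 1 ≤ q) :
    (∏ b : Bool, ∏ j : Fin (cond b 2 1), (q ^ (cond b 2 1) - q ^ (j : ℕ))) =
      (q - 1) ^ 3 * (q + 1) * q := by
  obtain ⟨r, rfl⟩ : ∃ r, q = r + 1 := ⟨q - 1, by omega⟩
  rw [Fintype.prod_bool]
  simp only [cond_true, cond_false, Fin.prod_univ_two, Fin.prod_univ_one, Fin.val_zero, Fin.val_one,
    pow_zero, pow_one, Nat.add_sub_cancel]
  have h1 : (r + 1) ^ 2 - 1 = r * (r + 2) := by
    have : (r + 1) ^ 2 = r * (r + 2) + 1 := by ring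
    rw [this, Nat.add_sub_cancel]
  have h2 : (r + 1) ^ 2 - (r + 1) = r * (r + 1) := by
    have : (r + 1) ^ 2 = r * (r + 1) + (r + 1) := by ring
    rw [this, Nat.add_sub_cancel]
  rw [h1, h2]
  ring

theorem arith3 (q : ℕ) :
    (∏ _i : Fin 3, ∏ j : Fin 1, (q ^ 1 - q ^ (j : ℕ))) = (q - 1) ^ 3 := by
  simp [Fin.prod_univ_three, pow_succ]

end Groth.Agent.H5.Aut3
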