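import Mathlib
import Groth.Prelude.Def_KLin
import Groth.Agent.Lib.Helper5.SD.Genus1Pic
import Groth.Agent.Lib.Helper5.SD.Cliff
import Groth.Agent.Lib.Helper5.Curve6.Ext3
import Groth.Agent.Lib.Lead.QC.TwistExt
import Groth.Agent.Lib.Lead.CohLES.H0
import Groth.Agent.Lib.Helper5.Glue.F

/-!
# Homs between invertible modules of the same degree on a proper integral curve
-/

set_option autoImplicit false
set_option linter.style.haveILetI false
universe u
open CategoryTheory CategoryTheory.Limits AlgebraicGeometry TopologicalSpace Opposite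

namespace Groth.Agent.H5.Aut3

open Groth.Agent.LD Groth.Agent.LD.QC Groth.Agent.H5.SD

variable (k : Type u) [Field k] (X : Scheme.{u}) [X.Over (Spec (CommRingCat.of k))]
  [IsProper (X ↘ Spec (CommRingCat.of k))] [IsIntegral X]

/-- a nonzero map `L ⟶ M` of invertible modules with `deg M ≤ deg L` is an isomorphism. -/
theorem isIso_of_ne_zero (hdim : topologicalKrullDim X = 1) {L M : X.Modules}
    (hL : PicF.IsInvertible L) (hM : PicF.IsInvertible M)
    (hdeg : Curv2.deg k X M 1 ≤ Curv2.deg k X L 1) (φ : L ⟶ M) (hφ : φ ≠ 0) : IsIso φ := by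
  obtain ⟨L', hL', ⟨e⟩⟩ := Groth.Agent.H5.Glue.exists_inverse L hL
  have e' : CohB1.tensorMod L' L ≅ unitMod X := (tensorCommAll L' L) ≪≫ e
  haveI := twF_isEquivalence L' L e'
  let τ : unitMod X ⟶ CohB1.tensorMod M L' := e.inv ≫ (twF L').map φ
  have hτ : τ ≠ 0 := by
    intro h
    apply hφ
    have h1 : (twF L').map φ = 0 := by
      rw [show (twF L').map φ = e.hom ≫ τ from (e.hom_inv_id_assoc _).symm, h, comp_zero]
      rfl
    exact (twF L').map_injective (h1.trans ((twF L').map_zero _ _).symm)
  have hN := isInvertible_tensorMod hM hL'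
  have hdegN : Curv2.deg k X (CohB1.tensorMod M L') 1 ≤ 0 := by
    rw [Groth.Agent.H5.Curve2.deg_tensor k X hdim.le hM hL', deg_of_inverse k X hdim hL hL' e]
    linarith
  have hτiso : IsIso τ := isIso_of_deg_nonpos k X hdim.le hN τ hτ hdegN
  haveI : IsIso ((twF L').map φ) := by
    rw [show (twF L').map φ = e.hom ≫ τ from (e.hom_inv_id_assoc _).symm]
    exact IsIso.comp_isIso' inferInstance hτiso
  exact isIso_of_reflects_iso φ (twF L')

/-- non-isomorphic invertible modules of the same degree have no nonzero maps between them. -/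
theorem hom_eq_zero (hdim : topologicalKrullDim X = 1) {L M : X.Modules}
    (hL : PicF.IsInvertible L) (hM : PicF.IsInvertible M)
    (hdeg : Curv2.deg k X M 1 ≤ Curv2.deg k X L 1) (hne : ¬ Nonempty (L ≅ M)) (φ : L ⟶ M) :
    φ = 0 := by
  by_contra h
  haveI := isIso_of_ne_zero k X hdim hL hM hdeg φ h
  exact hne ⟨asIso φ⟩

/-- the endomorphisms of an invertible module are in bijection with `H⁰(O)`. -/
theorem nonempty_end_equiv {L : X.Modules} (hL : PicF.IsInvertible L) :
    Nonempty (End L ≃ Coh.HH X (Coh.structureModule X) 0) := by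
  obtain ⟨L', hL', ⟨e⟩⟩ := Groth.Agent.H5.Glue.exists_inverse L hL
  have e' : CohB1.tensorMod L' L ≅ unitMod X := (tensorCommAll L' L) ≪≫ e
  haveI := twF_isEquivalence L' L e'
  let e1 : (L ⟶ L) ≃ ((twF L').obj L ⟶ (twF L').obj L) :=
    (Functor.FullyFaithful.ofFullyFaithful (twF L')).homEquiv
  let e2 : (CohB1.tensorMod L L' ⟶ CohB1.tensorMod L L') ≃ (unitMod X ⟶ unitMod X) :=
    Iso.homCongr e e
  let e3 : (unitMod X ⟶ unitMod X) ≃ Γ(unitMod X, ⊤) :=
    ⟨sectionOfHom, homOfSection _, homOfSection_sectionOfHom, sectionOfHom_homOfSection _⟩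
  exact ⟨(e1.trans e2).trans (e3.trans (CL.HH0Equiv (unitMod X)).symm.toEquiv)⟩

/-- the endomorphism ring of an invertible module on a proper integral curve over a finite field `k`
with `H⁰(O) = k` has as many elements as `k`. -/
theorem card_end [Finite k]
    (h0 : Module.finrank k (Coh.HH X (Coh.structureModule X) 0) = 1)
    {L : X.Modules} (hL : PicF.IsInvertible L) : Nat.card (End L) = Nat.card k := by
  obtain ⟨e⟩ := nonempty_end_equiv X hL
  rw [Nat.card_congr e]
  haveI : Module.Finite k (Coh.HH X (Coh.structureModule X) 0) :=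
    Module.finite_of_finrank_pos (by rw [h0]; exact one_pos)
  rw [Module.natCard_eq_pow_finrank (K := k), h0, pow_one]

/-- the endomorphism ring of an invertible module is `k`. -/
theorem nonempty_end_ringEquiv [Finite k]
    (h0 : Module.finrank k (Coh.HH X (Coh.structureModule X) 0) = 1)
    {L : X.Modules} (hL : PicF.IsInvertible L) : Nonempty (End L ≃+* k) := by
  haveI : Nontrivial (End L) := by
    refine ⟨⟨𝟙 L, 0, fun h => ?_⟩⟩
    exact Groth.Agent.H5.Curve6.not_isZero_of_isInvertible hL ((IsZero.iff_id_eq_zero L).mpr h)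
  have hinj : Function.Injective (algebraMap k (End L)) := (algebraMap k (End L)).injective
  haveI : Finite (End L) := by
    apply Nat.finite_of_card_ne_zero
    rw [card_end k X h0 hL]
    exact Nat.card_pos.ne'
  have hbij : Function.Bijective (algebraMap k (End L)) :=
    (Function.Injective.bijective_of_nat_card_le hinj (card_end k X h0 hL).le)
  exact ⟨(RingEquiv.ofBijective (algebraMap k (End L)) hbij).symm⟩

end Groth.Agent.H5.Aut3
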