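import Mathlib
import Groth.Agent.Lib.Helper5.Aut3.A2
import Groth.Agent.Lib.Helper5.Aut3.B
import Groth.Agent.Lib.Lead.Curve.InvMono

/-!
# Automorphisms of `O ⊕ L₁ ⊕ L₂` for invertible modules of degree zero (S18787)
-/

set_option autoImplicit false
set_option linter.style.haveILetI false
universe u
open CategoryTheory CategoryTheory.Limits AlgebraicGeometry TopologicalSpace Opposite

namespace Groth.Agent.H5.Aut3

open Groth.Agent.LD Groth.Agent.LD.QC Groth.Agent.H5.SD

variable (k : Type u) [Field k] (X : Scheme.{u}) [X.Over (Spec (CommRingCat.of k))]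
  [IsProper (X ↘ Spec (CommRingCat.of k))] [IsIntegral X]

theorem card_sub3 (f0 f1 f2 : Bool) (i : Bool) :
    Nat.card {a : Fin 3 // ![f0, f1, f2] a = i} =
      (if f0 = i then 1 else 0) + (if f1 = i then 1 else 0) + (if f2 = i then 1 else 0) := by
  rw [Nat.card_eq_fintype_card, Fintype.card_subtype]
  cases f0 <;> cases f1 <;> cases f2 <;> cases i <;> decide

theorem subsingleton_hom (hdim : topologicalKrullDim X = 1) {L M : X.Modules}
    (hL : PicF.IsInvertible L) (hM : PicF.IsInvertible M)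
    (hdeg : Curv2.deg k X M 1 ≤ Curv2.deg k X L 1) (hne : ¬ Nonempty (L ≅ M)) :
    Subsingleton (L ⟶ M) :=
  ⟨fun a b => (hom_eq_zero k X hdim hL hM hdeg hne a).trans
    (hom_eq_zero k X hdim hL hM hdeg hne b).symm⟩

theorem card_aut_three_invertible [Finite k] (hdim : topologicalKrullDim X = 1)
    (h0 : Module.finrank k (Coh.HH X (Coh.structureModule X) 0) = 1)
    (L₁ L₂ : X.Modules) (hL₁ : PicF.IsInvertible L₁) (hL₂ : PicF.IsInvertible L₂)
    (hd₁ : Curv2.deg k X L₁ 1 = 0) (hd₂ : Curv2.deg k X L₂ 1 = 0) :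
    (Nonempty (L₁ ≅ Coh.structureModule X) → Nonempty (L₂ ≅ Coh.structureModule X) →
      Nat.card (Aut (Coh.structureModule X ⊞ L₁ ⊞ L₂)) =
        (Nat.card k ^ 3 - 1) * (Nat.card k ^ 3 - Nat.card k) * (Nat.card k ^ 3 - Nat.card k ^ 2)) ∧
    (Nonempty (L₁ ≅ L₂) → ¬ Nonempty (L₁ ≅ Coh.structureModule X) →
      Nat.card (Aut (Coh.structureModule X ⊞ L₁ ⊞ L₂)) = (Nat.card k - 1) ^ 3 * (Nat.card k + 1) * Nat.card k) ∧
    (¬ Nonempty (L₁ ≅ L₂) → Nonempty (L₂ ≅ Coh.structureModule X) →
      Nat.card (Aut (Coh.structureModule X ⊞ L₁ ⊞ L₂)) = (Nat.card k - 1) ^ 3 * (Nat.card k + 1) * Nat.card k) ∧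
    (¬ Nonempty (L₁ ≅ Coh.structureModule X) → ¬ Nonempty (L₂ ≅ Coh.structureModule X) → ¬ Nonempty (L₁ ≅ L₂) →
      Nat.card (Aut (Coh.structureModule X ⊞ L₁ ⊞ L₂)) = (Nat.card k - 1) ^ 3) := by
  have hO : PicF.IsInvertible (Coh.structureModule X) := Curve.isInvertible_structureModule X
  have hdO : Curv2.deg k X (Coh.structureModule X) 1 = 0 := Curve.deg_structureModule k X
  have hq : 1 ≤ Nat.card k := Nat.card_pos
  refine ⟨fun ⟨e1⟩ ⟨e2⟩ => ?_, fun ⟨e12⟩ h1 => ?_, fun h12 ⟨e2⟩ => ?_, fun h1 h2 h12 => ?_⟩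
  · -- all three isomorphic to `O`
    have o : HomOrthogonal (fun _ : Unit => Coh.structureModule X) :=
      fun i j h => absurd (Subsingleton.elim i j) h
    have := card_aut_three (k := k) o () () () (fun _ => nonempty_end_ringEquiv k X h0 hO)
      (fun _ => 3) (fun i => by simp) (Coh.structureModule X) L₁ L₂ (Iso.refl _) e1 e2
    rw [this, arith1]
  · -- `L₁ ≅ L₂`, not isomorphic to `O`
    have h1' : ¬ Nonempty (Coh.structureModule X ≅ L₁) := fun ⟨e⟩ => h1 ⟨e.symm⟩
    have o : HomOrthogonal (fun b : Bool => cond b L₁ (Coh.structureModule X)) := by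
      intro i j hij
      cases i <;> cases j
      · exact absurd rfl hij
      · exact subsingleton_hom k X hdim hO hL₁ (hd₁.trans hdO.symm).le h1'
      · exact subsingleton_hom k X hdim hL₁ hO (hdO.trans hd₁.symm).le h1
      · exact absurd rfl hij
    have e : ∀ b : Bool, Nonempty (End (cond b L₁ (Coh.structureModule X)) ≃+* k) := by
      intro b
      cases b
      · exact nonempty_end_ringEquiv k X h0 hO
      · exact nonempty_end_ringEquiv k X h0 hL₁
    have := card_aut_three (k := k) o false true true e (fun b => cond b 2 1)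
      (fun i => by rw [card_sub3]; cases i <;> rfl)
      (Coh.structureModule X) L₁ L₂ (Iso.refl _) (Iso.refl _) e12.symm
    rw [this, arith2 _ hq]
  · -- `L₂ ≅ O`, `L₁` not isomorphic to them
    have h1 : ¬ Nonempty (L₁ ≅ Coh.structureModule X) := fun ⟨e⟩ => h12 ⟨e ≪≫ e2.symm⟩
    have h1' : ¬ Nonempty (Coh.structureModule X ≅ L₁) := fun ⟨e⟩ => h1 ⟨e.symm⟩
    have o : HomOrthogonal (fun b : Bool => cond b (Coh.structureModule X) L₁) := by
      intro i j hij
      cases i <;> cases j
      · exact absurd rfl hij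
      · exact subsingleton_hom k X hdim hL₁ hO (hdO.trans hd₁.symm).le h1
      · exact subsingleton_hom k X hdim hO hL₁ (hd₁.trans hdO.symm).le h1'
      · exact absurd rfl hij
    have e : ∀ b : Bool, Nonempty (End (cond b (Coh.structureModule X) L₁) ≃+* k) := by
      intro b
      cases b
      · exact nonempty_end_ringEquiv k X h0 hL₁
      · exact nonempty_end_ringEquiv k X h0 hO
    have := card_aut_three (k := k) o true false true e (fun b => cond b 2 1)
      (fun i => by rw [card_sub3]; cases i <;> rfl)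
      (Coh.structureModule X) L₁ L₂ (Iso.refl _) (Iso.refl _) e2
    rw [this, arith2 _ hq]
  · -- pairwise non-isomorphic
    have h1' : ¬ Nonempty (Coh.structureModule X ≅ L₁) := fun ⟨e⟩ => h1 ⟨e.symm⟩
    have h2' : ¬ Nonempty (Coh.structureModule X ≅ L₂) := fun ⟨e⟩ => h2 ⟨e.symm⟩
    have h12' : ¬ Nonempty (L₂ ≅ L₁) := fun ⟨e⟩ => h12 ⟨e.symm⟩
    have o : HomOrthogonal (![Coh.structureModule X, L₁, L₂]) := by
      intro i j hij
      fin_cases i <;> fin_cases j
      · exact absurd rfl hij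
      · exact subsingleton_hom k X hdim hO hL₁ (hd₁.trans hdO.symm).le h1'
      · exact subsingleton_hom k X hdim hO hL₂ (hd₂.trans hdO.symm).le h2'
      · exact subsingleton_hom k X hdim hL₁ hO (hdO.trans hd₁.symm).le h1
      · exact absurd rfl hij
      · exact subsingleton_hom k X hdim hL₁ hL₂ (hd₂.trans hd₁.symm).le h12
      · exact subsingleton_hom k X hdim hL₂ hO (hdO.trans hd₂.symm).le h2
      · exact subsingleton_hom k X hdim hL₂ hL₁ (hd₁.trans hd₂.symm).le h12'
      · exact absurd rfl hij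
    have e : ∀ i : Fin 3, Nonempty (End (![Coh.structureModule X, L₁, L₂] i) ≃+* k) := by
      intro i
      fin_cases i
      · exact nonempty_end_ringEquiv k X h0 hO
      · exact nonempty_end_ringEquiv k X h0 hL₁
      · exact nonempty_end_ringEquiv k X h0 hL₂
    have := card_aut_three (k := k) o 0 1 2 e (fun _ => 1)
      (fun i => by
        rw [Nat.card_eq_fintype_card, Fintype.card_subtype]
        fin_cases i <;> decide)
      (Coh.structureModule X) L₁ L₂ (Iso.refl _) (Iso.refl _) (Iso.refl _)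
    rw [this, arith3]

end Groth.Agent.H5.Aut3
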