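import Mathlib

/-!
# Endomorphisms of `U ⊞ F` for a non-split self-extension `0 → U → F → U → 0` with `End U = k`
-/

open CategoryTheory CategoryTheory.Limits

namespace Groth.Agent.H5.Aut3

universe v u w

section SelfExt

variable (k : Type w) [Field k] {𝒜 : Type u} [Category.{v} 𝒜] [Abelian 𝒜] [Linear k 𝒜]

/-- a non-split self-extension of an object `U` whose endomorphisms are scalars. -/
structure SelfExt (U F : 𝒜) where
  i : U ⟶ F
  p : F ⟶ U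
  w : i ≫ p = 0
  hex : (ShortComplex.mk i p w).ShortExact
  hns : ¬ IsSplitEpi p
  hU : ∀ φ : U ⟶ U, ∃ c : k, φ = c • 𝟙 U
  hU0 : 𝟙 U ≠ 0

namespace SelfExt

variable {k} {U F : 𝒜} (S : SelfExt k U F)

include S in
theorem smul_id_eq_zero {c : k} (h : c • 𝟙 U = 0) : c = 0 := by
  by_contra hc
  apply S.hU0
  have := congrArg (fun z => c⁻¹ • z) h
  simpa [smul_smul, inv_mul_cancel₀ hc] using this

instance : Mono S.i := S.hex.mono_f
instance : Epi S.p := S.hex.epi_g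

theorem i_ne_zero : S.i ≠ 0 := by
  intro h
  apply S.hU0
  rw [← cancel_mono S.i, h, comp_zero, comp_zero]

theorem eps_ne_zero : S.p ≫ S.i ≠ 0 := by
  intro h
  apply S.i_ne_zero
  rw [← cancel_epi S.p, h, comp_zero]

/-- maps `U ⟶ F` are multiples of `i`. -/
theorem hom_UF (s : U ⟶ F) : ∃ c : k, s = c • S.i := by
  obtain ⟨c', hc'⟩ := S.hU (s ≫ S.p)
  have h0 : s ≫ S.p = 0 := by
    by_contra hne
    have hc0 : c' ≠ 0 := by
      rintro rfl
      exact hne (by rw [hc', zero_smul])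
    apply S.hns
    refine ⟨⟨c'⁻¹ • s, ?_⟩⟩
    rw [Linear.smul_comp, hc', smul_smul, inv_mul_cancel₀ hc0, one_smul]
  obtain ⟨t, ht⟩ : ∃ t : U ⟶ U, t ≫ S.i = s := ⟨S.hex.exact.lift s h0, S.hex.exact.lift_f s h0⟩
  obtain ⟨c, hc⟩ := S.hU t
  exact ⟨c, by rw [← ht, hc, Linear.smul_comp, Category.id_comp]⟩

/-- maps `F ⟶ U` are multiples of `p`. -/
theorem hom_FU (φ : F ⟶ U) : ∃ c : k, φ = c • S.p := by
  obtain ⟨c', hc'⟩ := S.hU (S.i ≫ φ)
  have h0 : S.i ≫ φ = 0 := by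
    by_contra hne
    have hc0 : c' ≠ 0 := by
      rintro rfl
      exact hne (by rw [hc', zero_smul])
    apply S.hns
    have hr : S.i ≫ (c'⁻¹ • φ) = 𝟙 U := by
      rw [Linear.comp_smul, hc', smul_smul, inv_mul_cancel₀ hc0, one_smul]
    have spl := ShortComplex.Splitting.ofExactOfRetraction (ShortComplex.mk S.i S.p S.w)
      S.hex.exact (c'⁻¹ • φ) hr inferInstance
    exact ⟨⟨spl.s, spl.s_g⟩⟩
  obtain ⟨t, ht⟩ : ∃ t : U ⟶ U, S.p ≫ t = φ := ⟨S.hex.exact.desc φ h0, S.hex.exact.g_desc φ h0⟩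
  obtain ⟨c, hc⟩ := S.hU t
  exact ⟨c, by rw [← ht, hc, Linear.comp_smul, Category.comp_id]⟩

/-- endomorphisms of `F` are `d + e ε`. -/
theorem end_F (φ : F ⟶ F) : ∃ d e : k, φ = d • 𝟙 F + e • (S.p ≫ S.i) := by
  obtain ⟨d, hd⟩ := S.hom_UF (S.i ≫ φ)
  have h0 : S.i ≫ (φ - d • 𝟙 F) = 0 := by
    rw [Preadditive.comp_sub, hd, Linear.comp_smul, Category.comp_id, sub_self]
  obtain ⟨s, hs⟩ : ∃ s : U ⟶ F, S.p ≫ s = φ - d • 𝟙 F :=
    ⟨S.hex.exact.desc _ h0, S.hex.exact.g_desc _ h0⟩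
  obtain ⟨e, he⟩ := S.hom_UF s
  refine ⟨d, e, ?_⟩
  rw [← Linear.comp_smul, ← he, hs]
  abel

end SelfExt

end SelfExt

end Groth.Agent.H5.Aut3
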