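import Mathlib
import Groth.Agent.Lib.Helper5.Aut3.D

open CategoryTheory CategoryTheory.Limits

namespace Groth.Agent.H5.Aut3

universe v u w

variable {k : Type w} [Field k] {𝒜 : Type u} [Category.{v} 𝒜] [Abelian 𝒜] [Linear k 𝒜]

namespace SelfExt

variable {U F : 𝒜} (S : SelfExt k U F)

/-- the endomorphism of `U ⊞ F` with "matrix entries" `a, b p, c i, d + e ε`. -/
noncomputable def M (v : (k × k) × (k × k × k)) : U ⊞ F ⟶ U ⊞ F :=
  biprod.desc (biprod.lift (v.1.1 • 𝟙 U) (v.2.2.1 • S.i))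
    (biprod.lift (v.2.1 • S.p) (v.1.2 • 𝟙 F + v.2.2.2 • (S.p ≫ S.i)))

/-- the multiplication of parameter tuples `((a, d), (b, c, e))`. -/
def mul5 (v v' : (k × k) × (k × k × k)) : (k × k) × (k × k × k) :=
  ((v.1.1 * v'.1.1, v.1.2 * v'.1.2),
    (v.2.1 * v'.1.1 + v.1.2 * v'.2.1, v.1.1 * v'.2.2.1 + v.2.2.1 * v'.1.2,
      v.2.1 * v'.2.2.1 + v.1.2 * v'.2.2.2 + v.2.2.2 * v'.1.2))

theorem M_comp (v v' : (k × k) × (k × k × k)) : S.M v ≫ S.M v' = S.M (mul5 v v') := by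
  have hw := S.w
  have hw' : ∀ {Z : 𝒜} (h : U ⟶ Z), S.i ≫ S.p ≫ h = 0 := fun h => by rw [← Category.assoc, hw, zero_comp]
  unfold M mul5
  ext
  · simp [Linear.smul_comp, Linear.comp_smul, hw, smul_smul, mul_comm]
  · simp [Linear.smul_comp, Linear.comp_smul, hw, hw', smul_smul, add_smul, mul_comm]
  · simp [Linear.smul_comp, Linear.comp_smul, hw, hw', smul_smul, add_smul, mul_comm]
  · simp [Linear.smul_comp, Linear.comp_smul, hw, hw', smul_smul, add_smul, mul_comm]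
    abel

theorem M_one : S.M ((1, 1), (0, 0, 0)) = 𝟙 (U ⊞ F) := by
  unfold M
  ext <;> simp

theorem M_surjective : Function.Surjective S.M := by
  intro x
  obtain ⟨a, ha⟩ := S.hU (biprod.inl ≫ x ≫ biprod.fst)
  obtain ⟨c, hc⟩ := S.hom_UF (biprod.inl ≫ x ≫ biprod.snd)
  obtain ⟨b, hb⟩ := S.hom_FU (biprod.inr ≫ x ≫ biprod.fst)
  obtain ⟨d, e, hde⟩ := S.end_F (biprod.inr ≫ x ≫ biprod.snd)
  refine ⟨((a, d), (b, c, e)), ?_⟩
  unfold M
  ext
  · simp [ha]
  · simp [hc]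
  · simp [hb]
  · simp [hde]

theorem M_injective : Function.Injective S.M := by
  intro v v' h
  have h11 := congrArg (fun x => biprod.inl ≫ x ≫ biprod.fst) h
  have h12 := congrArg (fun x => biprod.inl ≫ x ≫ biprod.snd) h
  have h21 := congrArg (fun x => biprod.inr ≫ x ≫ biprod.fst) h
  have h22 := congrArg (fun x => biprod.inr ≫ x ≫ biprod.snd) h
  simp only [M, biprod.inl_desc_assoc, biprod.inr_desc_assoc, biprod.lift_fst, biprod.lift_snd]
    at h11 h12 h21 h22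
  have e1 : v.1.1 = v'.1.1 := by
    have : (v.1.1 - v'.1.1) • 𝟙 U = 0 := by rw [sub_smul, h11, sub_self]
    exact sub_eq_zero.mp (S.smul_id_eq_zero this)
  have e2 : v.2.2.1 = v'.2.2.1 := by
    have : (v.2.2.1 - v'.2.2.1) • S.i = 0 := by rw [sub_smul, h12, sub_self]
    by_contra hne
    apply S.i_ne_zero
    have h3 := congrArg (fun z => (v.2.2.1 - v'.2.2.1)⁻¹ • z) this
    simpa [smul_smul, inv_mul_cancel₀ (sub_ne_zero.mpr hne)] using h3
  have e3 : v.2.1 = v'.2.1 := by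
    have : (v.2.1 - v'.2.1) • S.p = 0 := by rw [sub_smul, h21, sub_self]
    by_contra hne
    have hp0 : S.p = 0 := by
      have h3 := congrArg (fun z => (v.2.1 - v'.2.1)⁻¹ • z) this
      simpa [smul_smul, inv_mul_cancel₀ (sub_ne_zero.mpr hne)] using h3
    apply S.eps_ne_zero
    rw [hp0, zero_comp]
  have e4 : v.1.2 = v'.1.2 := by
    have h5 := congrArg (fun z => S.i ≫ z) h22
    simp only [Preadditive.comp_add, Linear.comp_smul, Category.comp_id] at h5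
    rw [← Category.assoc, S.w, zero_comp, smul_zero, smul_zero, add_zero, add_zero] at h5
    have : (v.1.2 - v'.1.2) • S.i = 0 := by rw [sub_smul, h5, sub_self]
    by_contra hne
    apply S.i_ne_zero
    have h3 := congrArg (fun z => (v.1.2 - v'.1.2)⁻¹ • z) this
    simpa [smul_smul, inv_mul_cancel₀ (sub_ne_zero.mpr hne)] using h3
  have e5 : v.2.2.2 = v'.2.2.2 := by
    rw [e4] at h22
    have h6 : v.2.2.2 • (S.p ≫ S.i) = v'.2.2.2 • (S.p ≫ S.i) := add_left_cancel h22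
    have : (v.2.2.2 - v'.2.2.2) • (S.p ≫ S.i) = 0 := by rw [sub_smul, h6, sub_self]
    by_contra hne
    apply S.eps_ne_zero
    have h3 := congrArg (fun z => (v.2.2.2 - v'.2.2.2)⁻¹ • z) this
    simpa [smul_smul, inv_mul_cancel₀ (sub_ne_zero.mpr hne)] using h3
  ext <;> assumption

theorem isIso_M_iff (v : (k × k) × (k × k × k)) : IsIso (S.M v) ↔ v.1.1 ≠ 0 ∧ v.1.2 ≠ 0 := by
  constructor
  · intro h
    obtain ⟨w, hw⟩ := S.M_surjective (inv (S.M v))
    have h1 : S.M (mul5 v w) = S.M ((1, 1), (0, 0, 0)) := by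
      rw [← S.M_comp, hw, IsIso.hom_inv_id, S.M_one]
    have h2 := S.M_injective h1
    have ha : v.1.1 * w.1.1 = 1 := congrArg (fun z => z.1.1) h2
    have hd : v.1.2 * w.1.2 = 1 := congrArg (fun z => z.1.2) h2
    exact ⟨left_ne_zero_of_mul_eq_one ha, left_ne_zero_of_mul_eq_one hd⟩
  · rintro ⟨ha, hd⟩
    obtain ⟨⟨a, d⟩, ⟨b, c, e⟩⟩ := v
    simp only at ha hd
    let w : (k × k) × (k × k × k) :=
      ((a⁻¹, d⁻¹), (-(b / (a * d)), -(c / (a * d)), (b * c / (a * d) - e / d) / d))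
    have h1 : mul5 ((a, d), (b, c, e)) w = ((1, 1), (0, 0, 0)) := by
      simp only [mul5, w]
      refine Prod.ext (Prod.ext ?_ ?_) (Prod.ext ?_ (Prod.ext ?_ ?_)) <;> simp <;> field_simp <;> ring
    have h2 : mul5 w ((a, d), (b, c, e)) = ((1, 1), (0, 0, 0)) := by
      simp only [mul5, w]
      refine Prod.ext (Prod.ext ?_ ?_) (Prod.ext ?_ (Prod.ext ?_ ?_)) <;> simp <;> field_simp <;> ring
    exact ⟨⟨S.M w, by rw [M_comp, h1, M_one], by rw [M_comp, h2, M_one]⟩⟩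

include S in
theorem card_aut [Finite k] :
    Nat.card (Aut (U ⊞ F)) = (Nat.card k - 1) ^ 2 * Nat.card k ^ 3 := by
  let e1 : Aut (U ⊞ F) ≃ {x : U ⊞ F ⟶ U ⊞ F // IsIso x} :=
    { toFun := fun σ => ⟨σ.hom, inferInstance⟩
      invFun := fun x => haveI := x.2; asIso x.1
      left_inv := fun σ => Iso.ext rfl
      right_inv := fun x => rfl }
  let e2 : {v : (k × k) × (k × k × k) // v.1.1 ≠ 0 ∧ v.1.2 ≠ 0} ≃ {x : U ⊞ F ⟶ U ⊞ F // IsIso x} :=
    Equiv.subtypeEquiv (Equiv.ofBijective S.M ⟨S.M_injective, S.M_surjective⟩)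
      (fun v => (S.isIso_M_iff v).symm)
  let e3 : {v : (k × k) × (k × k × k) // v.1.1 ≠ 0 ∧ v.1.2 ≠ 0} ≃
      ({a : k // a ≠ 0} × {d : k // d ≠ 0}) × (k × k × k) :=
    (Equiv.prodSubtypeFstEquivSubtypeProd (p := fun x : k × k => x.1 ≠ 0 ∧ x.2 ≠ 0)).trans
      (Equiv.prodCongr (Equiv.subtypeProdEquivProd (p := fun a : k => a ≠ 0) (q := fun d : k => d ≠ 0))
        (Equiv.refl _))
  rw [Nat.card_congr (e1.trans (e2.symm.trans e3))]
  have hu : Nat.card {a : k // a ≠ 0} = Nat.card k - 1 := by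
    rw [← Nat.card_congr (unitsEquivNeZero (G₀ := k)), Nat.card_units]
  simp only [Nat.card_prod, hu]
  ring

end SelfExt

end Groth.Agent.H5.Aut3
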