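import Mathlib
import Groth.Agent.Lib.Helper5.Aut3.D2

open CategoryTheory CategoryTheory.Limits

namespace Groth.Agent.H5.Aut3

universe v u w

section Orth

variable {C : Type u} [Category.{v} C] [Preadditive C] [HasBinaryBiproducts C]

/-- automorphisms of a biproduct of two objects with no maps between them. -/
noncomputable def autBiprodEquiv (A B : C) (h1 : ∀ f : A ⟶ B, f = 0) (h2 : ∀ f : B ⟶ A, f = 0) :
    Aut A × Aut B ≃ Aut (A ⊞ B) where
  toFun p := biprod.mapIso p.1 p.2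
  invFun ρ :=
    (⟨biprod.inl ≫ ρ.hom ≫ biprod.fst, biprod.inl ≫ ρ.inv ≫ biprod.fst, by
        have h : biprod.inl ≫ ρ.hom ≫ biprod.snd = 0 := h1 _
        have ht : (biprod.fst : A ⊞ B ⟶ A) ≫ biprod.inl = 𝟙 _ - biprod.snd ≫ biprod.inr := by
          rw [← biprod.total]; abel
        simp only [Category.assoc]
        rw [reassoc_of% ht]
        simp [reassoc_of% h], by
        have h : biprod.inl ≫ ρ.inv ≫ biprod.snd = 0 := h1 _
        have ht : (biprod.fst : A ⊞ B ⟶ A) ≫ biprod.inl = 𝟙 _ - biprod.snd ≫ biprod.inr := by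
          rw [← biprod.total]; abel
        simp only [Category.assoc]
        rw [reassoc_of% ht]
        simp [reassoc_of% h]⟩,
     ⟨biprod.inr ≫ ρ.hom ≫ biprod.snd, biprod.inr ≫ ρ.inv ≫ biprod.snd, by
        have h : biprod.inr ≫ ρ.hom ≫ biprod.fst = 0 := h2 _
        have ht : (biprod.snd : A ⊞ B ⟶ B) ≫ biprod.inr = 𝟙 _ - biprod.fst ≫ biprod.inl := by
          rw [← biprod.total]; abel
        simp only [Category.assoc]
        rw [reassoc_of% ht]
        simp [reassoc_of% h], by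
        have h : biprod.inr ≫ ρ.inv ≫ biprod.fst = 0 := h2 _
        have ht : (biprod.snd : A ⊞ B ⟶ B) ≫ biprod.inr = 𝟙 _ - biprod.fst ≫ biprod.inl := by
          rw [← biprod.total]; abel
        simp only [Category.assoc]
        rw [reassoc_of% ht]
        simp [reassoc_of% h]⟩)
  left_inv p := by
    refine Prod.ext (Iso.ext ?_) (Iso.ext ?_) <;> simp
  right_inv ρ := by
    refine Iso.ext ?_
    have h1' : biprod.inl ≫ ρ.hom ≫ biprod.snd = 0 := h1 _
    have h2' : biprod.inr ≫ ρ.hom ≫ biprod.fst = 0 := h2 _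
    ext <;> simp [h1', h2']

theorem card_aut_biprod_of_orth (A B : C) (h1 : ∀ f : A ⟶ B, f = 0) (h2 : ∀ f : B ⟶ A, f = 0) :
    Nat.card (Aut (A ⊞ B)) = Nat.card (Aut A) * Nat.card (Aut B) := by
  rw [← Nat.card_congr (autBiprodEquiv A B h1 h2), Nat.card_prod]

end Orth

variable {k : Type w} [Field k] {𝒜 : Type u} [Category.{v} 𝒜] [Abelian 𝒜] [Linear k 𝒜]

namespace SelfExt

variable {U F : 𝒜} (S : SelfExt k U F)

/-- the endomorphism `d + e ε` of `F`. -/
noncomputable def N (v : k × k) : F ⟶ F := v.1 • 𝟙 F + v.2 • (S.p ≫ S.i)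

theorem M_eq_map_N (v : k × k) : S.M ((1, v.1), (0, 0, v.2)) = biprod.map (𝟙 U) (S.N v) := by
  unfold M N
  ext <;> simp

theorem N_injective : Function.Injective S.N := by
  intro v v' h
  have h1 : S.M ((1, v.1), (0, 0, v.2)) = S.M ((1, v'.1), (0, 0, v'.2)) := by
    rw [M_eq_map_N, M_eq_map_N, h]
  have h2 := S.M_injective h1
  exact Prod.ext (congrArg (fun z => z.1.2) h2) (congrArg (fun z => z.2.2.2) h2)

theorem N_surjective : Function.Surjective S.N := by
  intro φ
  obtain ⟨d, e, h⟩ := S.end_F φ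
  exact ⟨(d, e), h.symm⟩

theorem N_comp (v v' : k × k) : S.N v ≫ S.N v' = S.N (v.1 * v'.1, v.1 * v'.2 + v.2 * v'.1) := by
  have hw : ∀ {Z : 𝒜} (h : U ⟶ Z), S.i ≫ S.p ≫ h = 0 := fun h => by
    rw [← Category.assoc, S.w, zero_comp]
  unfold N
  simp [Linear.smul_comp, Linear.comp_smul, hw, smul_smul, add_smul, mul_comm]
  abel

theorem N_one : S.N (1, 0) = 𝟙 F := by
  unfold N
  simp

theorem isIso_N_iff (v : k × k) : IsIso (S.N v) ↔ v.1 ≠ 0 := by
  constructor
  · intro h
    obtain ⟨w, hw⟩ := S.N_surjective (inv (S.N v))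
    have h1 : S.N (v.1 * w.1, v.1 * w.2 + v.2 * w.1) = S.N (1, 0) := by
      rw [← S.N_comp, hw, IsIso.hom_inv_id, S.N_one]
    have h2 := S.N_injective h1
    exact left_ne_zero_of_mul_eq_one (congrArg Prod.fst h2)
  · intro hd
    obtain ⟨d, e⟩ := v
    simp only at hd
    refine ⟨⟨S.N (d⁻¹, -(e / (d * d))), ?_, ?_⟩⟩
    · rw [S.N_comp, ← S.N_one]
      congr 1
      refine Prod.ext ?_ ?_ <;> simp <;> field_simp <;> ring
    · rw [S.N_comp, ← S.N_one]
      congr 1
      refine Prod.ext ?_ ?_ <;> simp <;> field_simp <;> ring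

include S in
theorem card_aut_F [Finite k] : Nat.card (Aut F) = (Nat.card k - 1) * Nat.card k := by
  let e1 : Aut F ≃ {x : F ⟶ F // IsIso x} :=
    { toFun := fun σ => ⟨σ.hom, inferInstance⟩
      invFun := fun x => haveI := x.2; asIso x.1
      left_inv := fun σ => Iso.ext rfl
      right_inv := fun x => rfl }
  let e2 : {v : k × k // v.1 ≠ 0} ≃ {x : F ⟶ F // IsIso x} :=
    Equiv.subtypeEquiv (Equiv.ofBijective S.N ⟨S.N_injective, S.N_surjective⟩)
      (fun v => (S.isIso_N_iff v).symm)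
  let e3 : {v : k × k // v.1 ≠ 0} ≃ {a : k // a ≠ 0} × k :=
    Equiv.prodSubtypeFstEquivSubtypeProd (p := fun x : k => x ≠ 0)
  rw [Nat.card_congr (e1.trans (e2.symm.trans e3))]
  have hu : Nat.card {a : k // a ≠ 0} = Nat.card k - 1 := by
    rw [← Nat.card_congr (unitsEquivNeZero (G₀ := k)), Nat.card_units]
  simp only [Nat.card_prod, hu]

end SelfExt

end Groth.Agent.H5.Aut3
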