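import Mathlib
import Groth.Agent.Lib.Helper5.Aut3.D3
import Groth.Agent.Lib.Helper5.Aut3.B
import Groth.Agent.Lib.Lead.Curve.InvMono
import Groth.Agent.Lib.Lead.QC.InvField2
import Groth.Agent.Lib.Lead.QC.TwistEquiv

/-!
# Automorphisms of `O ⊕ F` and `O ⊕ L ⊗ F`, `F` the non-split self-extension of `O` (S18788)
-/

set_option autoImplicit false
set_option linter.style.haveILetI false
universe u
open CategoryTheory CategoryTheory.Limits AlgebraicGeometry TopologicalSpace Opposite

namespace Groth.Agent.H5.Aut3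

open Groth.Agent.LD Groth.Agent.LD.QC Groth.Agent.H5.SD

variable (k : Type u) [Field k] (X : Scheme.{u}) [X.Over (Spec (CommRingCat.of k))]
  [IsProper (X ↘ Spec (CommRingCat.of k))] [IsIntegral X]

/-- every endomorphism of an invertible module is a scalar. -/
theorem exists_smul_id [Finite k]
    (h0 : Module.finrank k (Coh.HH X (Coh.structureModule X) 0) = 1)
    {L : X.Modules} (hL : PicF.IsInvertible L) (φ : L ⟶ L) : ∃ c : k, φ = c • 𝟙 L := by
  haveI : Nontrivial (End L) := by
    refine ⟨⟨𝟙 L, 0, fun h => ?_⟩⟩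
    exact Groth.Agent.H5.Curve6.not_isZero_of_isInvertible hL ((IsZero.iff_id_eq_zero L).mpr h)
  have hinj : Function.Injective (algebraMap k (End L)) := (algebraMap k (End L)).injective
  haveI : Finite (End L) := by
    apply Nat.finite_of_card_ne_zero
    rw [card_end k X h0 hL]
    exact Nat.card_pos.ne'
  have hbij : Function.Bijective (algebraMap k (End L)) :=
    (Function.Injective.bijective_of_nat_card_le hinj (card_end k X h0 hL).le)
  obtain ⟨c, hc⟩ := hbij.2 φ
  refine ⟨c, ?_⟩
  rw [← hc, Algebra.algebraMap_eq_smul_one]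
  rfl

/-- the self-extension data from a short exact sequence `0 → O → F → O → 0` that does not split. -/
noncomputable def selfExtOf [Finite k]
    (h0 : Module.finrank k (Coh.HH X (Coh.structureModule X) 0) = 1)
    (T : ShortComplex X.Modules) (hT : T.ShortExact)
    (e₁ : T.X₁ ≅ Coh.structureModule X) (e₃ : T.X₃ ≅ Coh.structureModule X)
    (hns : ¬ IsSplitEpi T.g) : SelfExt k (Coh.structureModule X) T.X₂ where
  i := e₁.inv ≫ T.f
  p := T.g ≫ e₃.hom
  w := by simp
  hex := by
    refine ShortComplex.shortExact_of_iso (ShortComplex.isoMk e₁ (Iso.refl _) e₃ ?_ ?_) hT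
    · simp
    · simp
  hns := by
    rintro ⟨⟨s, hs⟩⟩
    apply hns
    refine ⟨⟨e₃.hom ≫ s, ?_⟩⟩
    have h1 : s ≫ T.g = e₃.inv := by
      rw [← cancel_mono e₃.hom, Category.assoc, hs, e₃.inv_hom_id]
    rw [Category.assoc, h1, e₃.hom_inv_id]
  hU := fun φ => exists_smul_id k X h0 (Curve.isInvertible_structureModule X) φ
  hU0 := unit_id_ne_zero

/-- no maps from an invertible module of degree zero, not isomorphic to `O`, to `F`. -/
theorem hom_to_selfExt_eq_zero [Finite k] (hdim : topologicalKrullDim X = 1)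
    {F : X.Modules} (S : SelfExt k (Coh.structureModule X) F)
    {M : X.Modules} (hM : PicF.IsInvertible M) (hd : Curv2.deg k X M 1 = 0)
    (hne : ¬ Nonempty (M ≅ Coh.structureModule X)) (φ : M ⟶ F) : φ = 0 := by
  have hO : PicF.IsInvertible (Coh.structureModule X) := Curve.isInvertible_structureModule X
  have hdO : Curv2.deg k X (Coh.structureModule X) 1 = 0 := Curve.deg_structureModule k X
  have hz : ∀ t : M ⟶ Coh.structureModule X, t = 0 :=
    fun t => hom_eq_zero k X hdim hM hO (hdO.trans hd.symm).le hne t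
  have h1 : φ ≫ S.p = 0 := hz _
  have h2 : S.hex.exact.lift φ h1 ≫ S.i = φ := S.hex.exact.lift_f φ h1
  rw [← h2, hz (S.hex.exact.lift φ h1), zero_comp]

/-- no maps from `F` to an invertible module of degree zero not isomorphic to `O`. -/
theorem hom_from_selfExt_eq_zero [Finite k] (hdim : topologicalKrullDim X = 1)
    {F : X.Modules} (S : SelfExt k (Coh.structureModule X) F)
    {M : X.Modules} (hM : PicF.IsInvertible M) (hd : Curv2.deg k X M 1 = 0)
    (hne : ¬ Nonempty (M ≅ Coh.structureModule X)) (φ : F ⟶ M) : φ = 0 := by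
  have hO : PicF.IsInvertible (Coh.structureModule X) := Curve.isInvertible_structureModule X
  have hdO : Curv2.deg k X (Coh.structureModule X) 1 = 0 := Curve.deg_structureModule k X
  have hne' : ¬ Nonempty (Coh.structureModule X ≅ M) := fun ⟨e⟩ => hne ⟨e.symm⟩
  have hz : ∀ t : Coh.structureModule X ⟶ M, t = 0 :=
    fun t => hom_eq_zero k X hdim hO hM (hd.trans hdO.symm).le hne' t
  have h1 : S.i ≫ φ = 0 := hz _
  have h2 : S.p ≫ S.hex.exact.desc φ h1 = φ := S.hex.exact.g_desc φ h1
  rw [← h2, hz (S.hex.exact.desc φ h1), comp_zero]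

theorem card_aut_unit [Finite k]
    (h0 : Module.finrank k (Coh.HH X (Coh.structureModule X) 0) = 1) :
    Nat.card (Aut (Coh.structureModule X)) = Nat.card k - 1 := by
  obtain ⟨e⟩ := nonempty_end_ringEquiv k X h0 (Curve.isInvertible_structureModule X)
  rw [← Nat.card_congr (Aut.unitsEndEquivAut (Coh.structureModule X)).toEquiv,
    Nat.card_congr (Units.mapEquiv e.toMulEquiv).toEquiv, Nat.card_units]

theorem card_aut_selfExt [Finite k] (hdim : topologicalKrullDim X = 1)
    (h0 : Module.finrank k (Coh.HH X (Coh.structureModule X) 0) = 1)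
    (T : ShortComplex X.Modules) (hT : T.ShortExact)
    (e₁ : T.X₁ ≅ Coh.structureModule X) (e₃ : T.X₃ ≅ Coh.structureModule X) (hns : ¬ IsSplitEpi T.g)
    (L : X.Modules) (hL : PicF.IsInvertible L) (hdeg : Curv2.deg k X L 1 = 0) :
    Nat.card (Aut (Coh.structureModule X ⊞ T.X₂)) = (Nat.card k - 1) ^ 2 * Nat.card k ^ 3 ∧
    (¬ Nonempty (L ≅ Coh.structureModule X) →
      Nat.card (Aut (Coh.structureModule X ⊞ CohB1.tensorMod L T.X₂)) =
        (Nat.card k - 1) ^ 2 * Nat.card k) := by
  let S := selfExtOf k X h0 T hT e₁ e₃ hns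
  refine ⟨S.card_aut, fun hne => ?_⟩
  obtain ⟨L', hL', ⟨e⟩⟩ := Groth.Agent.H5.Glue.exists_inverse L hL
  let Eq := twEquiv L L' e
  have hO : PicF.IsInvertible (Coh.structureModule X) := Curve.isInvertible_structureModule X
  have hdO : Curv2.deg k X (Coh.structureModule X) 1 = 0 := Curve.deg_structureModule k X
  -- the module `M = O ⊗ L'`
  have hM : PicF.IsInvertible (CohB1.tensorMod (unitMod X) L') := isInvertible_tensorMod hO hL'
  have hdM : Curv2.deg k X (CohB1.tensorMod (unitMod X) L') 1 = 0 := by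
    rw [Groth.Agent.H5.Curve2.deg_tensor k X hdim.le hO hL', deg_of_inverse k X hdim hL hL' e, hdeg]
    simpa using hdO
  have hMne : ¬ Nonempty (CohB1.tensorMod (unitMod X) L' ≅ Coh.structureModule X) := by
    rintro ⟨a⟩
    apply hne
    have a' : unitMod X ≅ L' := a.symm ≪≫ unitorL' L'
    exact ⟨(SecTwist.unitorR L).symm ≪≫ tensorIso' (Iso.refl L) a' ≪≫ e⟩
  let comm : CohB1.tensorMod L T.X₂ ≅ (twF L).obj T.X₂ := tensorCommAll L T.X₂
  have h1 : ∀ f : Coh.structureModule X ⟶ CohB1.tensorMod L T.X₂, f = 0 := by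
    intro f
    have h2 : (Eq.symm.toAdjunction.homEquiv (unitMod X) T.X₂).symm (f ≫ comm.hom) = 0 :=
      hom_to_selfExt_eq_zero k X hdim S hM hdM hMne _
    have h3 : f ≫ comm.hom = 0 := by
      have h6 := congrArg (Eq.symm.toAdjunction.homEquiv (unitMod X) T.X₂) h2
      rw [Equiv.apply_symm_apply] at h6
      haveI : (Eq.symm.functor).Additive := inferInstanceAs ((twF L').Additive)
      exact h6.trans (Eq.symm.toAdjunction.homAddEquiv_zero _ _)
    rw [← cancel_mono comm.hom, h3, zero_comp]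
  have h2 : ∀ f : CohB1.tensorMod L T.X₂ ⟶ Coh.structureModule X, f = 0 := by
    intro f
    have h2 : (Eq.toAdjunction.homEquiv T.X₂ (unitMod X)) (comm.inv ≫ f) = 0 :=
      hom_from_selfExt_eq_zero k X hdim S hM hdM hMne _
    have h3 : comm.inv ≫ f = 0 := by
      haveI : (Eq.functor).Additive := inferInstanceAs ((twF L).Additive)
      have h4 : (Eq.toAdjunction.homEquiv T.X₂ (unitMod X)) (comm.inv ≫ f) =
          (Eq.toAdjunction.homEquiv T.X₂ (unitMod X)) 0 := by
        rw [h2, Eq.toAdjunction.homAddEquiv_zero]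
      exact (Eq.toAdjunction.homEquiv T.X₂ (unitMod X)).injective h4
    rw [← cancel_epi comm.inv, h3, comp_zero]
  rw [card_aut_biprod_of_orth _ _ h1 h2, card_aut_unit k X h0]
  haveI : (twF L).IsEquivalence := twF_isEquivalence L L' e
  have h5 : Nat.card (Aut (CohB1.tensorMod L T.X₂)) = Nat.card (Aut T.X₂) := by
    rw [Nat.card_congr comm.conjAut.toEquiv]
    exact (Nat.card_congr
      ((Functor.FullyFaithful.ofFullyFaithful (twF L)).autMulEquivOfFullyFaithful T.X₂).toEquiv).symm
  rw [h5, S.card_aut_F]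
  ring

end Groth.Agent.H5.Aut3
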